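import Groth.Agent.LimGrp.Stage
import Groth.Agent.LimLib.Props
import Groth.Agent.S0114

/-! Representability of quotients by equivalence relations under base change to the stages. -/

set_option autoImplicit false
set_option backward.isDefEq.respectTransparency false
set_option backward.defeqAttrib.useBackward true
universe u

open CategoryTheory Limits AlgebraicGeometry MonoidalCategory CartesianMonoidalCategory

namespace Groth.Agent.LimGrp

variable {S T U : Scheme.{u}}

theorem isPullback_map_left (g : T ⟶ S) {X Y : Over S} (v : X ⟶ Y) :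
    IsPullback (pullback.fst X.hom g) ((Over.pullback g).map v).left v.left (pullback.fst Y.hom g) := by
  refine IsPullback.of_bot ?_ (bc_map_fst g v).symm (IsPullback.of_hasPullback Y.hom g)
  have e1 : ((Over.pullback g).map v).left ≫ pullback.snd Y.hom g = pullback.snd X.hom g :=
    Over.w ((Over.pullback g).map v)
  rw [e1, Over.w]
  exact IsPullback.of_hasPullback X.hom g

theorem property_map (P : MorphismProperty Scheme.{u}) [P.IsStableUnderBaseChange] (g : T ⟶ S)
    {X Y : Over S} (v : X ⟶ Y) (h : P v.left) : P ((Over.pullback g).map v).left :=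
  P.of_isPullback (isPullback_map_left g v) h

variable {g : T ⟶ S} {g' : U ⟶ T} {h : U ⟶ S}

theorem property_map_cmp (w : g' ≫ g = h) (P : MorphismProperty Scheme.{u}) [P.RespectsIso] {X Y : Over S}
    (v : X ⟶ Y) :
    P ((Over.pullback g').map ((Over.pullback g).map v)).left ↔ P ((Over.pullback h).map v).left := by
  have e := congrArg Over.Hom.left (cmp_natural w v)
  rw [Over.comp_left, Over.comp_left] at e
  rw [← P.cancel_right_of_respectsIso ((Over.pullback g').map ((Over.pullback g).map v)).left
    (cmp w Y).hom.left, e, P.cancel_left_of_respectsIso]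

theorem sq_cmp (w : g' ≫ g = h) {R X₁ X₂ Y : Over S} (a : R ⟶ X₁) (b : R ⟶ X₂) (c : X₁ ⟶ Y) (d : X₂ ⟶ Y) :
    IsPullback ((Over.pullback g').map ((Over.pullback g).map a))
      ((Over.pullback g').map ((Over.pullback g).map b))
      ((Over.pullback g').map ((Over.pullback g).map c))
      ((Over.pullback g').map ((Over.pullback g).map d)) ↔
    IsPullback ((Over.pullback h).map a) ((Over.pullback h).map b) ((Over.pullback h).map c)
      ((Over.pullback h).map d) :=
  ⟨fun hh => hh.of_iso (cmp w R) (cmp w X₁) (cmp w X₂) (cmp w Y) (cmp_natural w a) (cmp_natural w b)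
      (cmp_natural w c) (cmp_natural w d),
    fun hh => hh.of_iso (cmp w R).symm (cmp w X₁).symm (cmp w X₂).symm (cmp w Y).symm
      (by rw [Iso.symm_hom, Iso.symm_hom, Iso.eq_inv_comp, ← Category.assoc, Iso.comp_inv_eq, cmp_natural w a])
      (by rw [Iso.symm_hom, Iso.symm_hom, Iso.eq_inv_comp, ← Category.assoc, Iso.comp_inv_eq, cmp_natural w b])
      (by rw [Iso.symm_hom, Iso.symm_hom, Iso.eq_inv_comp, ← Category.assoc, Iso.comp_inv_eq, cmp_natural w c])
      (by rw [Iso.symm_hom, Iso.symm_hom, Iso.eq_inv_comp, ← Category.assoc, Iso.comp_inv_eq, cmp_natural w d])⟩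

/-- The quotient by the relation s, t is representable after base change. -/
def RepAt {R X : Over S} (s t : R ⟶ X) (g : T ⟶ S) : Prop :=
  ∃ (Y : Over T) (p : Red.bc g X ⟶ Y), Flat p.left ∧ Surjective p.left ∧
    LocallyOfFinitePresentation p.left ∧
    IsPullback ((Over.pullback g).map s) ((Over.pullback g).map t) p p

theorem RepAt.comp (w : g' ≫ g = h) {R X : Over S} {s t : R ⟶ X} (hr : RepAt s t g) : RepAt s t h := by
  obtain ⟨Y, p, h1, h2, h3, hp⟩ := hr
  refine ⟨Red.bc g' Y, (cmp w X).inv ≫ (Over.pullback g').map p, ?_, ?_, ?_, ?_⟩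
  · rw [Over.comp_left, MorphismProperty.cancel_left_of_respectsIso (P := @Flat)]
    exact property_map @Flat g' p h1
  · rw [Over.comp_left, MorphismProperty.cancel_left_of_respectsIso (P := @Surjective)]
    exact property_map @Surjective g' p h2
  · rw [Over.comp_left, MorphismProperty.cancel_left_of_respectsIso (P := @LocallyOfFinitePresentation)]
    exact property_map @LocallyOfFinitePresentation g' p h3
  · exact (hp.map (Over.pullback g')).of_iso (cmp w R) (cmp w X) (cmp w X) (Iso.refl _)
      (cmp_natural w s) (cmp_natural w t) (by simp) (by simp)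

theorem compactSpace_of_surjective {X Y : Scheme.{u}} (p : X ⟶ Y) [Surjective p] [CompactSpace X] :
    CompactSpace Y :=
  p.surjective.compactSpace p.base.hom.continuous

/-- The quotient of a quasi-separated space by an fppf relation with quasi-compact projection is
quasi-separated. -/
theorem quasiSeparatedSpace_of_quotient {X Y R : Scheme.{u}} (p : X ⟶ Y) [Flat p] [Surjective p]
    [LocallyOfFinitePresentation p] {s t : R ⟶ X} (hp : IsPullback s t p p) [QuasiCompact s]
    [QuasiCompact t] [QuasiSeparatedSpace R] : QuasiSeparatedSpace Y := by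
  have hop : IsOpenMap p.base := p.isOpenMap
  have lift : ∀ U : Set Y, IsOpen U → IsCompact U →
      ∃ W : Set X, IsOpen W ∧ IsCompact W ∧ p.base '' W = U := by
    intro U hU hUc
    have hnb : ∀ y : U, ∃ V : X.Opens, IsAffineOpen V ∧ (V : Set X) ⊆ p.base ⁻¹' U ∧
        (y : Y) ∈ p.base '' (V : Set X) := by
      intro y
      obtain ⟨x, hx⟩ := p.surjective (y : Y)
      obtain ⟨V, hV, hxV, hVU⟩ := TopologicalSpace.Opens.isBasis_iff_nbhd.mp X.isBasis_affineOpens
        (U := ⟨p.base ⁻¹' U, hU.preimage p.base.hom.continuous⟩) (x := x)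
        (show p.base x ∈ U by rw [hx]; exact y.2)
      exact ⟨V, hV, hVU, x, hxV, hx⟩
    choose V hV hVU hyV using hnb
    obtain ⟨F, hF⟩ := hUc.elim_finite_subcover (fun y => p.base '' (V y : Set X))
      (fun y => hop _ (V y).2) (fun y hy => Set.mem_iUnion.mpr ⟨⟨y, hy⟩, hyV ⟨y, hy⟩⟩)
    refine ⟨⋃ y ∈ F, (V y : Set X), isOpen_biUnion fun y _ => (V y).2,
      F.isCompact_biUnion fun y _ => (hV y).isCompact, ?_⟩
    refine Set.Subset.antisymm ?_ ?_
    · rintro _ ⟨x, hx, rfl⟩
      obtain ⟨y, _, hxy⟩ := Set.mem_iUnion₂.mp hx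
      exact hVU y hxy
    · intro z hz
      obtain ⟨y, hy, x, hx, rfl⟩ := Set.mem_iUnion₂.mp (hF hz)
      exact ⟨x, Set.mem_iUnion₂.mpr ⟨y, hy, hx⟩, rfl⟩
  refine ⟨fun A B hA hAc hB hBc => ?_⟩
  obtain ⟨W₁, o₁, c₁, rfl⟩ := lift A hA hAc
  obtain ⟨W₂, o₂, c₂, rfl⟩ := lift B hB hBc
  have hK : IsCompact (s.base ⁻¹' W₁ ∩ t.base ⁻¹' W₂) :=
    QuasiSeparatedSpace.inter_isCompact _ _ (o₁.preimage s.base.hom.continuous)
      (QuasiCompact.isCompact_preimage (f := s) _ o₁ c₁) (o₂.preimage t.base.hom.continuous)
      (QuasiCompact.isCompact_preimage (f := t) _ o₂ c₂)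
  have e : p.base '' W₁ ∩ p.base '' W₂ = (s ≫ p).base '' (s.base ⁻¹' W₁ ∩ t.base ⁻¹' W₂) := by
    refine Set.Subset.antisymm ?_ ?_
    · rintro _ ⟨⟨x₁, hx₁, rfl⟩, x₂, hx₂, he⟩
      obtain ⟨z', hz₁', hz₂'⟩ := Scheme.Pullback.exists_preimage_pullback (f := p) (g := p) x₁ x₂ he.symm
      obtain ⟨z, hz₁, hz₂⟩ : ∃ z : R, s.base z = x₁ ∧ t.base z = x₂ :=
        ⟨hp.isoPullback.inv.base z',
          by rw [← Scheme.Hom.comp_apply, hp.isoPullback_inv_fst]; exact hz₁',
          by rw [← Scheme.Hom.comp_apply, hp.isoPullback_inv_snd]; exact hz₂'⟩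
      refine ⟨z, ⟨?_, ?_⟩, ?_⟩
      · show s.base z ∈ W₁; rw [hz₁]; exact hx₁
      · show t.base z ∈ W₂; rw [hz₂]; exact hx₂
      · show p.base (s.base z) = _; rw [hz₁]
    · rintro _ ⟨z, ⟨hz₁, hz₂⟩, rfl⟩
      exact ⟨⟨_, hz₁, rfl⟩, ⟨_, hz₂, by rw [hp.w]; rfl⟩⟩
  rw [e]
  exact hK.image (s ≫ p).base.hom.continuous

section Limit

variable {I : Type u} [SmallCategory I] [IsCofiltered I] {D : I ⥤ Scheme.{u}} {c : Cone D}
  (hc : IsLimit c) [∀ (i i' : I) (f : i ⟶ i'), IsAffineHom (D.map f)]
  [∀ i, CompactSpace (D.obj i)] [∀ i, QuasiSeparatedSpace (D.obj i)]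
  {i : I}

include hc

theorem desc_mapProperty {P Q : MorphismProperty Scheme.{u}} [P.IsStableUnderBaseChange]
    [Q.IsStableUnderBaseChange] (hPQ : LimLib.Descends P Q) {X Y : Over (D.obj i)}
    [QuasiCompact X.hom] [QuasiSeparated X.hom] [QuasiCompact Y.hom] [QuasiSeparated Y.hom]
    (v : X ⟶ Y) (hQ : Q v.left) : Desc (c := c) fun g => P ((Over.pullback g).map v).left where
  comp g g' h := (property_map_cmp rfl P v).1 (property_map P g' _ h)
  descends h := by
    have : CompactSpace X.left := QuasiCompact.compactSpace_of_compactSpace X.hom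
    have : QuasiSeparatedSpace X.left := quasiSeparatedSpace_of_quasiSeparated X.hom
    have : CompactSpace Y.left := QuasiCompact.compactSpace_of_compactSpace Y.hom
    have : QuasiSeparatedSpace Y.left := quasiSeparatedSpace_of_quasiSeparated Y.hom
    obtain ⟨k, a, Xi, Yi, fi, gi, pY, pX, hY', hX', hP⟩ := hPQ.exists_stage hc v.left
      (IsPullback.of_hasPullback Y.hom (c.π.app i)) (isPullback_map_left (c.π.app i) v) hQ h
    exact ⟨k, a, LimLib.property_of_factor hX' (isPullback_map_left (D.map a) v)
      hY'.isoPullback.inv hY'.isoPullback_inv_fst hP⟩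

theorem desc_isPullback {R X Y : Over (D.obj i)} [QuasiCompact R.hom] [QuasiSeparated R.hom]
    [LocallyOfFinitePresentation R.hom] [QuasiCompact X.hom] [QuasiSeparated X.hom]
    [LocallyOfFinitePresentation X.hom] [QuasiCompact Y.hom] [QuasiSeparated Y.hom]
    [LocallyOfFinitePresentation Y.hom] (s t : R ⟶ X) (v : X ⟶ Y) :
    Desc (c := c) fun g => IsPullback ((Over.pullback g).map s) ((Over.pullback g).map t)
      ((Over.pullback g).map v) ((Over.pullback g).map v) where
  comp g g' h := (sq_cmp rfl s t v v).1 (h.map (Over.pullback g'))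
  descends h := by
    obtain ⟨k, a, hk⟩ := exists_stage_eq hc R Y (s ≫ v) (t ≫ v) (by simpa using h.w)
    let F := Over.pullback (D.map a)
    have hw : F.map s ≫ F.map v = F.map t ≫ F.map v := by simpa [F] using hk
    let vk : Red.bc (D.map a) X ⟶ Red.bc (D.map a) Y := F.map v
    have sq := (IsPullback.of_hasPullback vk vk).map (Over.forget (D.obj k))
    have hvk : LocallyOfFinitePresentation vk.left := by
      have : LocallyOfFinitePresentation (vk.left ≫ (Red.bc (D.map a) Y).hom) := by
        rw [Over.w]; infer_instance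
      exact MorphismProperty.of_postcomp (W := @LocallyOfFinitePresentation)
        (W' := @LocallyOfFiniteType) _ (Red.bc (D.map a) Y).hom inferInstance this
    have hvq : QuasiCompact vk.left := by
      have : QuasiCompact (vk.left ≫ (Red.bc (D.map a) Y).hom) := by rw [Over.w]; infer_instance
      exact QuasiCompact.of_comp vk.left (Red.bc (D.map a) Y).hom
    have hvs : QuasiSeparated vk.left := by
      have : QuasiSeparated (vk.left ≫ (Red.bc (D.map a) Y).hom) := by rw [Over.w]; infer_instance
      exact QuasiSeparated.of_comp vk.left (Red.bc (D.map a) Y).hom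
    have q1 : QuasiCompact (pullback vk vk).hom := by
      have : QuasiCompact (pullback.fst vk vk).left := MorphismProperty.of_isPullback sq.flip hvq
      rw [← Over.w (pullback.fst vk vk)]; infer_instance
    have q2 : QuasiSeparated (pullback vk vk).hom := by
      have : QuasiSeparated (pullback.fst vk vk).left := MorphismProperty.of_isPullback sq.flip hvs
      rw [← Over.w (pullback.fst vk vk)]; infer_instance
    have q3 : LocallyOfFinitePresentation (pullback vk vk).hom := by
      have : LocallyOfFinitePresentation (pullback.fst vk vk).left :=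
        MorphismProperty.of_isPullback sq.flip hvk
      rw [← Over.w (pullback.fst vk vk)]; infer_instance
    let d : Red.bc (D.map a) R ⟶ pullback vk vk := pullback.lift (F.map s) (F.map t) hw
    have key : ∀ {T : Scheme.{u}} (g : T ⟶ D.obj k), IsPullback ((Over.pullback g).map (F.map s))
        ((Over.pullback g).map (F.map t)) ((Over.pullback g).map vk) ((Over.pullback g).map vk) ↔
          IsIso ((Over.pullback g).map d) := fun g => by
      have hpb := (IsPullback.of_hasPullback vk vk).map (Over.pullback g)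
      have e1 : (Over.pullback g).map d ≫ (Over.pullback g).map (pullback.fst vk vk) =
          (Over.pullback g).map (F.map s) := by rw [← Functor.map_comp, pullback.lift_fst]
      have e2 : (Over.pullback g).map d ≫ (Over.pullback g).map (pullback.snd vk vk) =
          (Over.pullback g).map (F.map t) := by rw [← Functor.map_comp, pullback.lift_snd]
      constructor
      · intro hh
        have : (Over.pullback g).map d = (hh.isoIsPullback _ _ hpb).hom :=
          hpb.hom_ext (e1.trans (hh.isoIsPullback_hom_fst _ _ hpb).symm)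
            (e2.trans (hh.isoIsPullback_hom_snd _ _ hpb).symm)
        rw [this]; infer_instance
      · intro hh
        exact IsPullback.of_iso hpb (asIso ((Over.pullback g).map d)).symm (Iso.refl _) (Iso.refl _)
          (Iso.refl _) (by simp [← e1]) (by simp [← e2]) rfl rfl
    obtain ⟨l, b, hb⟩ := (desc_isIso hc d).descends
      ((key _).1 ((sq_cmp (c.w a) s t v v).2 h))
    exact ⟨l, b ≫ a, (sq_cmp (D.map_comp b a).symm s t v v).1 ((key _).2 hb)⟩

theorem desc_repAt {R X : Over (D.obj i)} [QuasiCompact R.hom] [QuasiSeparated R.hom]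
    [LocallyOfFinitePresentation R.hom] [QuasiCompact X.hom] [QuasiSeparated X.hom]
    [LocallyOfFinitePresentation X.hom] (s t : R ⟶ X) :
    Desc (c := c) fun g => RepAt s t g where
  comp _ _ h := RepAt.comp rfl h
  descends := by
    rintro ⟨Y, p, h1, h2, h3, hp⟩
    have : IsAffineHom (c.π.app i) := isAffineHom_π_app _ _ hc i
    let gc : c.pt ⟶ D.obj i := c.π.app i
    have : CompactSpace c.pt := Scheme.compactSpace_of_isLimit _ _ hc
    have : QuasiSeparatedSpace c.pt := quasiSeparatedSpace_of_quasiSeparated gc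
    have : CompactSpace (Red.bc gc X).left :=
      QuasiCompact.compactSpace_of_compactSpace (Red.bc gc X).hom
    have : QuasiSeparatedSpace (Red.bc gc R).left :=
      quasiSeparatedSpace_of_quasiSeparated (Red.bc gc R).hom
    have hY : LocallyOfFinitePresentation Y.hom := by
      have : LocallyOfFinitePresentation (p.left ≫ Y.hom) := by rw [Over.w]; infer_instance
      exact S0114.result p.left Y.hom
    have : CompactSpace Y.left := compactSpace_of_surjective p.left
    have hs : ∀ x : R ⟶ X, QuasiCompact ((Over.pullback gc).map x).left := fun x => by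
      have : QuasiCompact (((Over.pullback gc).map x).left ≫ (Red.bc gc X).hom) := by
        rw [Over.w]; infer_instance
      exact QuasiCompact.of_comp _ (Red.bc gc X).hom
    have : QuasiCompact ((Over.forget c.pt).map ((Over.pullback (c.π.app i)).map s)) := hs s
    have : QuasiCompact ((Over.forget c.pt).map ((Over.pullback (c.π.app i)).map t)) := hs t
    have : QuasiSeparatedSpace ↥((Over.forget c.pt).obj ((Over.pullback (c.π.app i)).obj R)) :=
      quasiSeparatedSpace_of_quasiSeparated (Red.bc gc R).hom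
    have : QuasiSeparatedSpace Y.left :=
      quasiSeparatedSpace_of_quotient p.left (hp.map (Over.forget c.pt))
    obtain ⟨i₀, Yi, fi, q, g1, g2, g3, hq⟩ := LimLib.hasModel hc Y.hom
    let k := IsCofiltered.min i i₀
    let π : k ⟶ i := IsCofiltered.minToLeft i i₀
    obtain ⟨f1, f2, f3, hk⟩ := LimLib.HasModel.at_finer g1 g2 g3 hq (IsCofiltered.minToRight i i₀)
    let YO : Over (D.obj k) := Over.mk (pullback.snd fi (D.map (IsCofiltered.minToRight i i₀)))
    have : LocallyOfFinitePresentation YO.hom := f1
    have : CompactSpace YO.left := f2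
    have : QuasiSeparatedSpace YO.left := f3
    have : QuasiCompact YO.hom := quasiCompact_of_compactSpace _
    have : QuasiSeparated YO.hom := QuasiSeparated.of_quasiSeparatedSpace _
    let e0 : Y ≅ Red.bc (c.π.app k) YO := Over.isoMk hk.isoPullback hk.isoPullback_hom_snd
    let p' := (cmp (c.w π) X).hom ≫ p ≫ e0.hom
    obtain ⟨m, a, v, hv⟩ := exists_stage_hom hc (Red.bc (D.map π) X) YO p'
    let Fm := Over.pullback (c.π.app m)
    let cX : Red.bc (c.π.app m) (Red.bc (D.map a) (Red.bc (D.map π) X)) ≅ Red.bc gc X :=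
      cmp (c.w a) (Red.bc (D.map π) X) ≪≫ cmp (c.w π) X
    let cR : Red.bc (c.π.app m) (Red.bc (D.map a) (Red.bc (D.map π) R)) ≅ Red.bc gc R :=
      cmp (c.w a) (Red.bc (D.map π) R) ≪≫ cmp (c.w π) R
    let cY : Red.bc (c.π.app m) (Red.bc (D.map a) YO) ≅ Y := cmp (c.w a) YO ≪≫ e0.symm
    have ev : Fm.map v ≫ cY.hom = cX.hom ≫ p := by
      simp only [Fm, cX, cY, Iso.trans_hom, Iso.symm_hom, reassoc_of% hv, p', Category.assoc,
        Iso.hom_inv_id, Category.comp_id]
    have ev' : Fm.map v = cX.hom ≫ p ≫ cY.inv := by rw [← reassoc_of% ev, Iso.hom_inv_id, Category.comp_id]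
    let F2 := fun {A B : Over (D.obj i)} (f : A ⟶ B) =>
      (Over.pullback (D.map a)).map ((Over.pullback (D.map π)).map f)
    have ec : ∀ x : R ⟶ X, Fm.map (F2 x) ≫ cX.hom = cR.hom ≫ (Over.pullback gc).map x := fun x => by
      simp only [Fm, F2, cX, cR, Iso.trans_hom, Category.assoc]
      rw [reassoc_of% cmp_natural (c.w a) ((Over.pullback (D.map π)).map x), cmp_natural (c.w π) x]
    have sq : IsPullback (Fm.map (F2 s)) (Fm.map (F2 t)) (Fm.map v) (Fm.map v) :=
      hp.of_iso cR.symm cX.symm cX.symm cY.symm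
        (by simp only [Iso.symm_hom]; rw [Iso.eq_inv_comp, ← Category.assoc, Iso.comp_inv_eq, ec])
        (by simp only [Iso.symm_hom]; rw [Iso.eq_inv_comp, ← Category.assoc, Iso.comp_inv_eq, ec])
        (by simp only [Iso.symm_hom]; rw [Iso.eq_inv_comp, ev'])
        (by simp only [Iso.symm_hom]; rw [Iso.eq_inv_comp, ev'])
    have hfl : Flat (Fm.map v).left ∧ Surjective (Fm.map v).left := by
      rw [ev', Over.comp_left, Over.comp_left]
      exact ⟨inferInstance, inferInstance⟩
    have hvl : LocallyOfFinitePresentation v.left := by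
      have : LocallyOfFinitePresentation (v.left ≫ (Red.bc (D.map a) YO).hom) := by
        rw [Over.w]; infer_instance
      exact MorphismProperty.of_postcomp (W := @LocallyOfFinitePresentation)
        (W' := @LocallyOfFiniteType) _ (Red.bc (D.map a) YO).hom inferInstance this
    obtain ⟨n, b, hb1, hb2, hb3⟩ := ((desc_mapProperty hc FlatDescends.descends_flat v hvl).and
      ((desc_mapProperty hc EGA43Lim.descends_surjective v hvl).and
        (desc_isPullback hc (F2 s) (F2 t) v))).descends ⟨hfl.1, hfl.2, sq⟩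
    have hr : RepAt (F2 s) (F2 t) (D.map b) :=
      ⟨_, (Over.pullback (D.map b)).map v, hb1, hb2,
        property_map @LocallyOfFinitePresentation _ v hvl, hb3⟩
    obtain ⟨Y', p1, q1, q2, q3, q4⟩ := hr
    let ζ := fun Z : Over (D.obj i) =>
      cmp (D.map_comp b a).symm (Red.bc (D.map π) Z) ≪≫ cmp (D.map_comp (b ≫ a) π).symm Z
    refine ⟨n, (b ≫ a) ≫ π, Y', (ζ X).inv ≫ p1, ?_, ?_, ?_, ?_⟩
    · rw [Over.comp_left, MorphismProperty.cancel_left_of_respectsIso (P := @Flat)]; exact q1
    · rw [Over.comp_left, MorphismProperty.cancel_left_of_respectsIso (P := @Surjective)]; exact q2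
    · rw [Over.comp_left, MorphismProperty.cancel_left_of_respectsIso (P := @LocallyOfFinitePresentation)]
      exact q3
    · have en : ∀ x : R ⟶ X, (Over.pullback (D.map b)).map (F2 x) ≫ (ζ X).hom =
          (ζ R).hom ≫ (Over.pullback (D.map ((b ≫ a) ≫ π))).map x := fun x => by
        simp only [F2, ζ, Iso.trans_hom, Category.assoc]
        rw [reassoc_of% cmp_natural (D.map_comp b a).symm ((Over.pullback (D.map π)).map x),
          cmp_natural (D.map_comp (b ≫ a) π).symm x]
      exact q4.of_iso (ζ R) (ζ X) (ζ X) (Iso.refl _) (en s) (en t) (by simp) (by simp)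

end Limit

end Groth.Agent.LimGrp
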