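import Groth.Agent.LimGrp.Hom
import Groth.Prelude.Def_AlgGrp

/-! Group homomorphisms, monomorphisms and factorizations under base change to the stages. -/

set_option autoImplicit false
set_option backward.isDefEq.respectTransparency false
set_option backward.defeqAttrib.useBackward true
universe u v w

open CategoryTheory Limits AlgebraicGeometry MonoidalCategory CartesianMonoidalCategory MonObj

namespace Groth.Agent.LimGrp

theorem isMonHom_of_mul {C : Type w} [Category.{v} C] [CartesianMonoidalCategory C] {G H : C}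
    [GrpObj G] [GrpObj H] {u : G ⟶ H} (h : μ[G] ≫ u = (u ⊗ₘ u) ≫ μ[H]) : IsMonHom u := by
  have hm : ∀ {T : C} (a b : T ⟶ G), (a * b) ≫ u = (a ≫ u) * (b ≫ u) := fun a b => by
    rw [Hom.mul_def, Category.assoc, h, lift_map_assoc, Hom.mul_def]
  refine ⟨?_, h⟩
  have h1 : ((1 : 𝟙_ C ⟶ G) ≫ u) = 1 := by
    have := hm (1 : 𝟙_ C ⟶ G) 1
    rw [_root_.mul_one] at this
    exact (mul_eq_left.1 this.symm)
  simpa [Hom.one_def] using h1

theorem natIso_app_mul {C : Type w} [Category.{v} C] [CartesianMonoidalCategory C] {E : Type w}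
    [Category.{v} E] [CartesianMonoidalCategory E] {F F' : C ⥤ E} [F.Monoidal] [F'.Monoidal]
    (α : F ≅ F') (G : C) :
    Functor.LaxMonoidal.μ F G G ≫ α.hom.app (G ⊗ G) =
      (α.hom.app G ⊗ₘ α.hom.app G) ≫ Functor.LaxMonoidal.μ F' G G := by
  rw [← cancel_mono (Functor.OplaxMonoidal.δ F' G G), Category.assoc, Category.assoc,
    Functor.Monoidal.μ_δ, Category.comp_id]
  apply CartesianMonoidalCategory.hom_ext
  · rw [Category.assoc, Category.assoc, Functor.OplaxMonoidal.δ_fst, tensorHom_fst, ← α.hom.naturality,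
      Functor.Monoidal.μ_fst_assoc]
  · rw [Category.assoc, Category.assoc, Functor.OplaxMonoidal.δ_snd, tensorHom_snd, ← α.hom.naturality,
      Functor.Monoidal.μ_snd_assoc]

section

variable {S T U : Scheme.{u}} {g : T ⟶ S} {g' : U ⟶ T} {h : U ⟶ S} (w : g' ≫ g = h)

theorem isMonHom_cmp (G : Over S) [GrpObj G] : IsMonHom (cmp w G).hom := by
  subst w
  refine isMonHom_of_mul ?_
  simp only [Functor.obj.μ_def, Category.assoc]
  have e : ∀ X : Over S, (cmp (rfl : g' ≫ g = _) X).hom =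
      (Over.pullbackComp g' g).symm.hom.app X := fun X => by simp [cmp]
  rw [e]
  have nat := (Over.pullbackComp g' g).symm.hom.naturality μ[G]
  have key := natIso_app_mul (Over.pullbackComp g' g).symm G
  simp only [Functor.comp_map] at nat
  rw [Functor.LaxMonoidal.comp_μ, Category.assoc] at key
  rw [Functor.map_comp, Category.assoc, nat, reassoc_of% key]

/-- Equality after base change. -/
def EqAt {X Y : Over S} (v₁ v₂ : X ⟶ Y) (g : T ⟶ S) : Prop :=
  (Over.pullback g).map v₁ = (Over.pullback g).map v₂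

/-- Factorization after base change. -/
def FactorsAt {X Y Z : Over S} (w : X ⟶ Z) (v : Y ⟶ Z) (g : T ⟶ S) : Prop :=
  ∃ φ : Red.bc g X ⟶ Red.bc g Y, φ ≫ (Over.pullback g).map v = (Over.pullback g).map w

include w

theorem EqAt.comp {X Y : Over S} {v₁ v₂ : X ⟶ Y} (hv : EqAt v₁ v₂ g) : EqAt v₁ v₂ h := by
  unfold EqAt at *
  rw [bc_map_comp_congr w, bc_map_comp_congr w, hv]

theorem FactorsAt.comp {X Y Z : Over S} {x : X ⟶ Z} {v : Y ⟶ Z} (hv : FactorsAt x v g) :
    FactorsAt x v h := by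
  obtain ⟨φ, hφ⟩ := hv
  refine ⟨(cmp w X).inv ≫ (Over.pullback g').map φ ≫ (cmp w Y).hom, ?_⟩
  rw [bc_map_comp_congr w x, ← hφ, Functor.map_comp, Category.assoc, Category.assoc, Category.assoc,
    ← cmp_natural]

end

section Limit

variable {I : Type u} [SmallCategory I] [IsCofiltered I] {D : I ⥤ Scheme.{u}} {c : Cone D}
  (hc : IsLimit c) [∀ (i i' : I) (f : i ⟶ i'), IsAffineHom (D.map f)]
  [∀ i, CompactSpace (D.obj i)] [∀ i, QuasiSeparatedSpace (D.obj i)]
  {i : I}

/-- A property of base changes that passes to finer ones and descends to a stage. -/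
structure Desc (P : ∀ {T : Scheme.{u}}, (T ⟶ D.obj i) → Prop) : Prop where
  comp : ∀ {T U : Scheme.{u}} (g : T ⟶ D.obj i) (g' : U ⟶ T), P g → P (g' ≫ g)
  descends : P (c.π.app i) → ∃ (j : I) (a : j ⟶ i), P (D.map a)

omit [IsCofiltered I] [∀ (i i' : I) (f : i ⟶ i'), IsAffineHom (D.map f)]
  [∀ i, CompactSpace (D.obj i)] [∀ i, QuasiSeparatedSpace (D.obj i)] in
theorem Desc.iff {P : ∀ {T : Scheme.{u}}, (T ⟶ D.obj i) → Prop} (hP : Desc (c := c) P) :
    P (c.π.app i) ↔ ∃ (j : I) (a : j ⟶ i), P (D.map a) :=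
  ⟨hP.descends, fun ⟨j, a, h⟩ => c.w a ▸ hP.comp (D.map a) (c.π.app j) h⟩

omit [∀ (i i' : I) (f : i ⟶ i'), IsAffineHom (D.map f)]
  [∀ i, CompactSpace (D.obj i)] [∀ i, QuasiSeparatedSpace (D.obj i)] in
theorem Desc.and {P Q : ∀ {T : Scheme.{u}}, (T ⟶ D.obj i) → Prop} (hP : Desc (c := c) P)
    (hQ : Desc (c := c) Q) : Desc (c := c) fun g => P g ∧ Q g where
  comp g g' h := ⟨hP.comp g g' h.1, hQ.comp g g' h.2⟩
  descends h := by
    obtain ⟨j, a, ha⟩ := hP.descends h.1
    obtain ⟨k, b, hb⟩ := hQ.descends h.2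
    obtain ⟨l, p, q, e⟩ := IsCofiltered.cospan a b
    refine ⟨l, p ≫ a, ?_, ?_⟩
    · rw [D.map_comp]; exact hP.comp _ _ ha
    · rw [e, D.map_comp]; exact hQ.comp _ _ hb

include hc

theorem desc_eqAt {X Y : Over (D.obj i)} [QuasiCompact X.hom] [QuasiSeparated X.hom]
    [LocallyOfFiniteType Y.hom] (v₁ v₂ : X ⟶ Y) : Desc (c := c) fun g => EqAt v₁ v₂ g where
  comp _ _ h := EqAt.comp rfl h
  descends h := exists_stage_eq hc X Y v₁ v₂ h

theorem desc_factorsAt {X Y Z : Over (D.obj i)} [QuasiCompact X.hom] [QuasiSeparated X.hom]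
    [LocallyOfFinitePresentation Y.hom] [LocallyOfFiniteType Z.hom] (x : X ⟶ Z) (v : Y ⟶ Z) :
    Desc (c := c) fun g => FactorsAt x v g where
  comp _ _ h := FactorsAt.comp rfl h
  descends := by
    rintro ⟨φ, hφ⟩
    obtain ⟨j, a, φ', hφ'⟩ := exists_stage_hom hc X Y φ
    have : QuasiCompact (Red.bc (D.map a) X).hom :=
      inferInstanceAs (QuasiCompact (pullback.snd X.hom (D.map a)))
    have : QuasiSeparated (Red.bc (D.map a) X).hom :=
      inferInstanceAs (QuasiSeparated (pullback.snd X.hom (D.map a)))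
    have : LocallyOfFiniteType (Red.bc (D.map a) Z).hom :=
      inferInstanceAs (LocallyOfFiniteType (pullback.snd Z.hom (D.map a)))
    have e : (Over.pullback (c.π.app j)).map (φ' ≫ (Over.pullback (D.map a)).map v) =
        (Over.pullback (c.π.app j)).map ((Over.pullback (D.map a)).map x) := by
      rw [← cancel_mono (cmp (c.w a) Z).hom, Functor.map_comp, Category.assoc,
        cmp_natural (c.w a) v, cmp_natural (c.w a) x, reassoc_of% hφ', hφ]
    obtain ⟨k, b, hb⟩ := exists_stage_eq hc _ _ _ _ e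
    refine ⟨k, b ≫ a, (cmp (D.map_comp b a).symm X).inv ≫ (Over.pullback (D.map b)).map φ' ≫
      (cmp (D.map_comp b a).symm Y).hom, ?_⟩
    rw [Category.assoc, Category.assoc, ← cmp_natural, bc_map_comp_congr (D.map_comp b a).symm x,
      ← hb, (Over.pullback (D.map b)).map_comp, Category.assoc]

end Limit

section Tests

set_option synthInstance.maxHeartbeats 200000

variable {S T : Scheme.{u}} (g : T ⟶ S) {G H : Over S} [GrpObj G] [GrpObj H] (v : H ⟶ G)

/-- The conjugate of the second variable by the first. -/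
noncomputable def conjHom : G ⊗ H ⟶ G := fst G H * (snd G H ≫ v) * (fst G H)⁻¹

theorem map_mul' {X : Over S} (a b : X ⟶ G) :
    (Over.pullback g).map (a * b) = (Over.pullback g).map a * (Over.pullback g).map b :=
  Functor.map_mul _ a b

theorem map_inv' {X : Over S} (a : X ⟶ G) :
    (Over.pullback g).map a⁻¹ = ((Over.pullback g).map a)⁻¹ :=
  Functor.map_inv' _ a

theorem mu_map_fst : Functor.LaxMonoidal.μ (Over.pullback g) G H ≫ (Over.pullback g).map (fst G H) =
    fst _ _ := Functor.Monoidal.μ_fst _ _ _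

theorem mu_map_snd : Functor.LaxMonoidal.μ (Over.pullback g) G H ≫ (Over.pullback g).map (snd G H) =
    snd _ _ := Functor.Monoidal.μ_snd _ _ _

theorem isNormalHom_iff :
    AlgGrp.IsNormalHom ((Over.pullback g).map v) ↔ FactorsAt (conjHom v) v g := by
  set F := Over.pullback g
  have hc : Functor.LaxMonoidal.μ F G H ≫ F.map (conjHom v) =
      fst (F.obj G) (F.obj H) * (snd (F.obj G) (F.obj H) ≫ F.map v) * (fst (F.obj G) (F.obj H))⁻¹ := by
    rw [conjHom, map_mul', map_mul', map_inv', MonObj.comp_mul, MonObj.comp_mul, GrpObj.comp_inv,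
      Functor.map_comp, mu_map_fst, reassoc_of% mu_map_snd g (G := G) (H := H)]
  constructor
  · intro hN
    obtain ⟨n', hn'⟩ := hN (F.obj G ⊗ F.obj H) (fst _ _) (snd _ _)
    refine ⟨Functor.OplaxMonoidal.δ F G H ≫ n', ?_⟩
    rw [Category.assoc, ← hn', ← hc, Functor.Monoidal.δ_μ_assoc]
  · rintro ⟨φ, hφ⟩ X a n
    refine ⟨lift a n ≫ Functor.LaxMonoidal.μ F G H ≫ φ, ?_⟩
    rw [Category.assoc, Category.assoc, hφ, hc, MonObj.comp_mul, MonObj.comp_mul, GrpObj.comp_inv,
      lift_fst, lift_snd_assoc]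

theorem isCentral_iff :
    (∀ (X : Over T) (a : X ⟶ Red.bc g G) (n : X ⟶ Red.bc g H),
        a * (n ≫ (Over.pullback g).map v) = (n ≫ (Over.pullback g).map v) * a) ↔
      EqAt (fst G H * (snd G H ≫ v)) ((snd G H ≫ v) * fst G H) g := by
  set F := Over.pullback g
  have h1 : Functor.LaxMonoidal.μ F G H ≫ F.map (fst G H * (snd G H ≫ v)) =
      fst (F.obj G) (F.obj H) * (snd (F.obj G) (F.obj H) ≫ F.map v) := by
    rw [map_mul', MonObj.comp_mul, Functor.map_comp, mu_map_fst, reassoc_of% mu_map_snd g (G := G) (H := H)]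
  have h2 : Functor.LaxMonoidal.μ F G H ≫ F.map ((snd G H ≫ v) * fst G H) =
      (snd (F.obj G) (F.obj H) ≫ F.map v) * fst (F.obj G) (F.obj H) := by
    rw [map_mul', MonObj.comp_mul, Functor.map_comp, mu_map_fst, reassoc_of% mu_map_snd g (G := G) (H := H)]
  constructor
  · intro hC
    rw [EqAt, ← cancel_epi (Functor.LaxMonoidal.μ F G H), h1, h2]
    exact hC _ (fst _ _) (snd _ _)
  · intro hE X a n
    have := congrArg (fun f => lift a n ≫ Functor.LaxMonoidal.μ F G H ≫ f) hE
    rw [h1, h2, MonObj.comp_mul, MonObj.comp_mul, lift_fst, lift_snd_assoc] at this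
    exact this

omit [GrpObj G] [GrpObj H] in
theorem mono_iff :
    Mono ((Over.pullback g).map v) ↔ EqAt (pullback.fst v v) (pullback.snd v v) g := by
  have hk := (IsPullback.of_hasPullback v v).map (Over.pullback g)
  constructor
  · intro hm
    exact (cancel_mono ((Over.pullback g).map v)).1 hk.w
  · intro he
    refine ⟨fun {X} p q hpq => ?_⟩
    exact (hk.lift_fst p q hpq).symm.trans
      ((congrArg (hk.lift p q hpq ≫ ·) he).trans (hk.lift_snd p q hpq))

end Tests

end Groth.Agent.LimGrp
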