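import Groth.Agent.LimGrp.Props
import Groth.Agent.LimLib.Model
import Groth.Agent.FlatDescends.Basic
import Groth.Agent.EGA43Lim.Basic

/-! Isomorphisms and fppf covers under base change to the stages. -/

set_option autoImplicit false
set_option backward.isDefEq.respectTransparency false
set_option backward.defeqAttrib.useBackward true
universe u

open CategoryTheory Limits AlgebraicGeometry MonoidalCategory CartesianMonoidalCategory

namespace Groth.Agent.LimGrp

section Inst

variable {S T : Scheme.{u}} (g : T ⟶ S) (X Y : Over S)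

instance [QuasiCompact X.hom] : QuasiCompact (Red.bc g X).hom :=
  inferInstanceAs (QuasiCompact (pullback.snd X.hom g))

instance [QuasiSeparated X.hom] : QuasiSeparated (Red.bc g X).hom :=
  inferInstanceAs (QuasiSeparated (pullback.snd X.hom g))

instance [LocallyOfFiniteType X.hom] : LocallyOfFiniteType (Red.bc g X).hom :=
  inferInstanceAs (LocallyOfFiniteType (pullback.snd X.hom g))

instance [LocallyOfFinitePresentation X.hom] : LocallyOfFinitePresentation (Red.bc g X).hom :=
  inferInstanceAs (LocallyOfFinitePresentation (pullback.snd X.hom g))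

instance [QuasiCompact X.hom] [QuasiCompact Y.hom] : QuasiCompact (X ⊗ Y).hom :=
  inferInstanceAs (QuasiCompact (pullback.fst X.hom Y.hom ≫ X.hom))

instance [QuasiSeparated X.hom] [QuasiSeparated Y.hom] : QuasiSeparated (X ⊗ Y).hom :=
  inferInstanceAs (QuasiSeparated (pullback.fst X.hom Y.hom ≫ X.hom))

instance [LocallyOfFiniteType X.hom] [LocallyOfFiniteType Y.hom] :
    LocallyOfFiniteType (X ⊗ Y).hom :=
  inferInstanceAs (LocallyOfFiniteType (pullback.fst X.hom Y.hom ≫ X.hom))

instance [LocallyOfFinitePresentation X.hom] [LocallyOfFinitePresentation Y.hom] :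
    LocallyOfFinitePresentation (X ⊗ Y).hom :=
  inferInstanceAs (LocallyOfFinitePresentation (pullback.fst X.hom Y.hom ≫ X.hom))

end Inst

theorem cmp_assoc {S T U V : Scheme.{u}} {g : T ⟶ S} {g' : U ⟶ T} {g'' : V ⟶ U} {h : U ⟶ S}
    {h' : V ⟶ T} {k : V ⟶ S} (w : g' ≫ g = h) (w' : g'' ≫ g' = h') (wh : g'' ≫ h = k)
    (wh' : h' ≫ g = k) (X : Over S) :
    (Over.pullback g'').map (cmp w X).hom ≫ (cmp wh X).hom =
      (cmp w' (Red.bc g X)).hom ≫ (cmp wh' X).hom := by
  refine bc_hom_ext ?_
  rw [Over.comp_left, Over.comp_left, Category.assoc, Category.assoc, cmp_fst, cmp_fst,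
    reassoc_of% bc_map_fst g'' (cmp w X).hom, cmp_fst, reassoc_of% cmp_fst w' (Red.bc g X)]

theorem isMonHom_of_bc_mul {S T : Scheme.{u}} (g : T ⟶ S) {G H : Over S} [GrpObj G] [GrpObj H]
    {v : G ⟶ H} (h : EqAt (MonObj.mul ≫ v) ((v ⊗ₘ v) ≫ MonObj.mul) g) :
    IsMonHom ((Over.pullback g).map v) := by
  refine isMonHom_of_mul ?_
  rw [Functor.obj.μ_def, Functor.obj.μ_def, Category.assoc, ← Functor.map_comp,
    Functor.LaxMonoidal.μ_natural_assoc, ← Functor.map_comp]
  exact congrArg (Functor.LaxMonoidal.μ (Over.pullback g) G G ≫ ·) h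

theorem eqAt_mul_of_isMonHom {S T : Scheme.{u}} (g : T ⟶ S) {G H : Over S} [GrpObj G] [GrpObj H]
    {v : G ⟶ H} (h : IsMonHom ((Over.pullback g).map v)) :
    EqAt (MonObj.mul ≫ v) ((v ⊗ₘ v) ≫ MonObj.mul) g := by
  have e := h.mul_hom
  rw [Functor.obj.μ_def, Functor.obj.μ_def, Category.assoc, ← Functor.map_comp,
    Functor.LaxMonoidal.μ_natural_assoc, ← Functor.map_comp, cancel_epi] at e
  exact e

theorem isIso_comp {S T U : Scheme.{u}} {g : T ⟶ S} {g' : U ⟶ T} {h : U ⟶ S} (w : g' ≫ g = h)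
    {X Y : Over S} (s : X ⟶ Y) (hs : IsIso ((Over.pullback g').map ((Over.pullback g).map s))) :
    IsIso ((Over.pullback h).map s) := by
  rw [bc_map_comp_congr w]; infer_instance

/-- The structure map of the base change is covering for the fppf topology. -/
def CoverAt {S T : Scheme.{u}} (X : Over S) (g : T ⟶ S) : Prop :=
  ∃ (Z : Scheme.{u}) (v : Z ⟶ T) (w : Z ⟶ (Red.bc g X).left), w ≫ (Red.bc g X).hom = v ∧
    Flat v ∧ Surjective v ∧ LocallyOfFinitePresentation v ∧ QuasiCompact v ∧ QuasiSeparated v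

theorem CoverAt.comp {S T U : Scheme.{u}} {X : Over S} {g : T ⟶ S} {g' : U ⟶ T} {h : U ⟶ S}
    (w : g' ≫ g = h) (hX : CoverAt X g) : CoverAt X h := by
  obtain ⟨Z, v, x, hx, h1, h2, h3, h4, h5⟩ := hX
  let ψ : Red.bc g' (Over.mk v) ⟶ Red.bc h X :=
    (Over.pullback g').map (Over.homMk x hx) ≫ (cmp w X).hom
  exact ⟨_, (Red.bc g' (Over.mk v)).hom, ψ.left, Over.w ψ,
    MorphismProperty.pullback_snd v g' h1, MorphismProperty.pullback_snd v g' h2,
    MorphismProperty.pullback_snd v g' h3, MorphismProperty.pullback_snd v g' h4,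
    MorphismProperty.pullback_snd v g' h5⟩

section Limit

variable {I : Type u} [SmallCategory I] [IsCofiltered I] {D : I ⥤ Scheme.{u}} {c : Cone D}
  (hc : IsLimit c) [∀ (i i' : I) (f : i ⟶ i'), IsAffineHom (D.map f)]
  [∀ i, CompactSpace (D.obj i)] [∀ i, QuasiSeparatedSpace (D.obj i)]
  {i : I}

include hc

theorem desc_isIso {X Y : Over (D.obj i)} [QuasiCompact X.hom] [QuasiSeparated X.hom]
    [LocallyOfFinitePresentation X.hom] [QuasiCompact Y.hom] [QuasiSeparated Y.hom]
    [LocallyOfFinitePresentation Y.hom] (s : X ⟶ Y) :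
    Desc (c := c) fun g => IsIso ((Over.pullback g).map s) where
  comp _ _ h := isIso_comp rfl s (have := h; inferInstance)
  descends h := by
    obtain ⟨j, a, t, ht⟩ := exists_stage_hom hc Y X (inv ((Over.pullback (c.π.app i)).map s))
    have e1 : (Over.pullback (c.π.app j)).map (t ≫ (Over.pullback (D.map a)).map s) =
        (Over.pullback (c.π.app j)).map (𝟙 _) := by
      rw [← cancel_mono (cmp (c.w a) Y).hom, Functor.map_comp, Category.assoc,
        cmp_natural, reassoc_of% ht, IsIso.inv_hom_id, Category.comp_id, CategoryTheory.Functor.map_id,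
        Category.id_comp]
    have e2 : (Over.pullback (c.π.app j)).map ((Over.pullback (D.map a)).map s ≫ t) =
        (Over.pullback (c.π.app j)).map (𝟙 _) := by
      rw [← cancel_mono (cmp (c.w a) X).hom, Functor.map_comp, Category.assoc, ht,
        reassoc_of% cmp_natural (c.w a) s, IsIso.hom_inv_id, Category.comp_id,
        CategoryTheory.Functor.map_id, Category.id_comp]
    obtain ⟨k, b, hb1, hb2⟩ := ((desc_eqAt hc _ _).and (desc_eqAt hc _ _)).descends ⟨e1, e2⟩
    have h' : IsIso ((Over.pullback (D.map b)).map ((Over.pullback (D.map a)).map s)) :=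
      ⟨(Over.pullback (D.map b)).map t,
        by rw [← Functor.map_comp]; exact hb2.trans (CategoryTheory.Functor.map_id _ _),
        by rw [← Functor.map_comp]; exact hb1.trans (CategoryTheory.Functor.map_id _ _)⟩
    exact ⟨k, b ≫ a, isIso_comp (D.map_comp b a).symm s h'⟩

theorem desc_flatSurj (Z : Over (D.obj i)) [QuasiCompact Z.hom] [QuasiSeparated Z.hom]
    [LocallyOfFinitePresentation Z.hom] :
    Desc (c := c) fun g => Flat (Red.bc g Z).hom ∧ Surjective (Red.bc g Z).hom := by
  have hcomp : ∀ (P : MorphismProperty Scheme.{u}) [P.IsStableUnderBaseChange] {T U : Scheme.{u}}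
      (g : T ⟶ D.obj i) (g' : U ⟶ T), P (Red.bc g Z).hom → P (Red.bc (g' ≫ g) Z).hom :=
    fun P _ T U g g' h => LimLib.property_of_factor (IsPullback.of_hasPullback Z.hom g)
      (IsPullback.of_hasPullback Z.hom (g' ≫ g)) g' rfl h
  have hZ : CompactSpace Z.left := QuasiCompact.compactSpace_of_compactSpace Z.hom
  have hZ' : QuasiSeparatedSpace Z.left := quasiSeparatedSpace_of_quasiSeparated Z.hom
  refine Desc.and ⟨hcomp @Flat, fun h => ?_⟩ ⟨hcomp @Surjective, fun h => ?_⟩
  · exact FlatDescends.descends_flat D c hc inferInstance inferInstance inferInstance i Z.left Z.hom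
      hZ hZ' inferInstance _ _ _ (IsPullback.of_hasPullback Z.hom (c.π.app i)) h
  · exact EGA43Lim.descends_surjective D c hc inferInstance inferInstance inferInstance i Z.left
      Z.hom hZ hZ' inferInstance _ _ _ (IsPullback.of_hasPullback Z.hom (c.π.app i)) h

theorem desc_coverAt (X : Over (D.obj i)) [LocallyOfFinitePresentation X.hom] :
    Desc (c := c) fun g => CoverAt X g where
  comp _ _ h := CoverAt.comp rfl h
  descends := by
    rintro ⟨Z, v, x, hx, h1, h2, h3, h4, h5⟩
    have : IsAffineHom (c.π.app i) := isAffineHom_π_app _ _ hc i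
    have : CompactSpace Z := QuasiCompact.compactSpace_of_compactSpace (v ≫ c.π.app i)
    have : QuasiSeparatedSpace Z := quasiSeparatedSpace_of_quasiSeparated (v ≫ c.π.app i)
    obtain ⟨i₀, Zi, fi, q, g1, g2, g3, hq⟩ := LimLib.hasModel hc v
    let k := IsCofiltered.min i i₀
    let p : k ⟶ i := IsCofiltered.minToLeft i i₀
    obtain ⟨f1, f2, f3, hk⟩ := LimLib.HasModel.at_finer g1 g2 g3 hq (IsCofiltered.minToRight i i₀)
    let ZO : Over (D.obj k) := Over.mk (pullback.snd fi (D.map (IsCofiltered.minToRight i i₀)))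
    have : LocallyOfFinitePresentation ZO.hom := f1
    have : CompactSpace ZO.left := f2
    have : QuasiSeparatedSpace ZO.left := f3
    have : QuasiCompact ZO.hom := quasiCompact_of_compactSpace _
    have : QuasiSeparated ZO.hom := QuasiSeparated.of_quasiSeparatedSpace _
    let e0 : Over.mk v ≅ Red.bc (c.π.app k) ZO :=
      Over.isoMk hk.isoPullback hk.isoPullback_hom_snd
    obtain ⟨m, a, x', -⟩ := exists_stage_hom hc ZO (Red.bc (D.map p) X)
      (e0.inv ≫ Over.homMk x hx ≫ (cmp (c.w p) X).inv)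
    have hfs : Flat (Red.bc (c.π.app k) ZO).hom ∧ Surjective (Red.bc (c.π.app k) ZO).hom := by
      have e : e0.inv.left ≫ v = (Red.bc (c.π.app k) ZO).hom := Over.w e0.inv
      exact ⟨e ▸ inferInstance, e ▸ inferInstance⟩
    obtain ⟨n, b, hn⟩ := (Desc.and (c := c) (P := fun g => Flat (Red.bc g ZO).hom ∧
        Surjective (Red.bc g ZO).hom) (desc_flatSurj hc ZO)
      (Q := fun g => Nonempty (Red.bc g ZO ⟶ Red.bc g (Red.bc (D.map p) X)))
      ⟨fun g g' h => h.map fun φ => (cmp rfl ZO).inv ≫ (Over.pullback g').map φ ≫ (cmp rfl _).hom,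
        fun _ => ⟨m, a, ⟨x'⟩⟩⟩).descends ⟨hfs, ⟨e0.inv ≫ Over.homMk x hx ≫ (cmp (c.w p) X).inv⟩⟩
    obtain ⟨⟨hn1, hn2⟩, ⟨φ⟩⟩ := hn
    let ψ := φ ≫ (cmp (D.map_comp b p).symm X).hom
    exact ⟨n, b ≫ p, _, (Red.bc (D.map b) ZO).hom, ψ.left, Over.w ψ, hn1, hn2, inferInstance,
      inferInstance, inferInstance⟩

end Limit

end Groth.Agent.LimGrp
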