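import Groth.Agent.LimGrp.Stage

/-! Group laws that hold after a monoidal functor. -/

set_option autoImplicit false
set_option backward.isDefEq.respectTransparency false
set_option backward.defeqAttrib.useBackward true
universe u v v' w w'

open CategoryTheory Limits AlgebraicGeometry MonoidalCategory CartesianMonoidalCategory MonObj

namespace Groth.Agent.LimGrp

section

variable {C : Type w} [Category.{v} C] [CartesianMonoidalCategory C] {E : Type w'} [Category.{v'} E]
  [CartesianMonoidalCategory E] (F : C ⥤ E) [F.Monoidal] {X : C} (one : 𝟙_ C ⟶ X)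
  (mul : X ⊗ X ⟶ X) (inv : X ⟶ X)

/-- The group laws for the given operations hold after applying F. -/
structure LawsAt : Prop where
  one_mul : F.map (one ▷ X ≫ mul) = F.map (λ_ X).hom
  mul_one : F.map (X ◁ one ≫ mul) = F.map (ρ_ X).hom
  mul_assoc : F.map (mul ▷ X ≫ mul) = F.map ((α_ X X X).hom ≫ X ◁ mul ≫ mul)
  left_inv : F.map (lift inv (𝟙 X) ≫ mul) = F.map (toUnit X ≫ one)
  right_inv : F.map (lift (𝟙 X) inv ≫ mul) = F.map (toUnit X ≫ one)

variable {F one mul inv}

/-- The group object on the image. -/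
noncomputable abbrev LawsAt.grpObj (h : LawsAt F one mul inv) : GrpObj (F.obj X) where
  one := Functor.LaxMonoidal.ε F ≫ F.map one
  mul := Functor.LaxMonoidal.μ F X X ≫ F.map mul
  one_mul := by simp [← F.map_comp, h.one_mul]
  mul_one := by simp [← F.map_comp, h.mul_one]
  mul_assoc := by
    simp_rw [comp_whiskerRight, Category.assoc, Functor.LaxMonoidal.μ_natural_left_assoc,
      MonoidalCategory.whiskerLeft_comp, Category.assoc,
      Functor.LaxMonoidal.μ_natural_right_assoc]
    slice_lhs 3 4 => rw [← F.map_comp, h.mul_assoc]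
    simp
  inv := F.map inv
  left_inv := by
    simp [← CategoryTheory.Functor.map_id, Functor.Monoidal.lift_μ_assoc,
      Functor.Monoidal.toUnit_ε_assoc, ← Functor.map_comp, h.left_inv]
  right_inv := by
    simp [← CategoryTheory.Functor.map_id, Functor.Monoidal.lift_μ_assoc,
      Functor.Monoidal.toUnit_ε_assoc, ← Functor.map_comp, h.right_inv]

theorem lawsAt_of_grpObj [GrpObj (F.obj X)]
    (h1 : η[F.obj X] = Functor.LaxMonoidal.ε F ≫ F.map one)
    (h2 : μ[F.obj X] = Functor.LaxMonoidal.μ F X X ≫ F.map mul)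
    (h3 : GrpObj.inv (X := F.obj X) = F.map inv) : LawsAt F one mul inv := by
  have m : ∀ {T : C} (a b : T ⟶ X), F.map (lift a b ≫ mul) = F.map a * F.map b := fun a b => by
    rw [Hom.mul_def, h2, Functor.Monoidal.lift_μ_assoc, F.map_comp]
  have o : ∀ {T : C}, F.map (toUnit T ≫ one) = (1 : F.obj T ⟶ F.obj X) := fun {T} => by
    rw [Hom.one_def, h1, F.map_comp, Functor.Monoidal.toUnit_ε_assoc]
  have iv : ∀ {T : C} (a : T ⟶ X), F.map (a ≫ inv) = (F.map a)⁻¹ := fun a => by
    rw [Hom.inv_def, h3, F.map_comp]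
  refine ⟨?_, ?_, ?_, ?_, ?_⟩
  · have e : one ▷ X = lift (toUnit _ ≫ one) (snd (𝟙_ C) X) := by
      ext <;> simp [toUnit_unique (fst (𝟙_ C) X) (toUnit _)]
    rw [e, m, o, _root_.one_mul, leftUnitor_hom]
  · have e : X ◁ one = lift (fst X (𝟙_ C)) (toUnit _ ≫ one) := by
      ext <;> simp [toUnit_unique (snd X (𝟙_ C)) (toUnit _)]
    rw [e, m, o, _root_.mul_one, rightUnitor_hom]
  · have e1 : mul ▷ X = lift (lift (fst _ _ ≫ fst _ _) (fst _ _ ≫ snd _ _) ≫ mul)
        (snd (X ⊗ X) X) := by
      ext <;> simp [← comp_lift_assoc]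
    have e2 : (α_ X X X).hom ≫ X ◁ mul = lift (fst _ _ ≫ fst _ _)
        (lift (fst _ _ ≫ snd _ _) (snd (X ⊗ X) X) ≫ mul) := by
      ext
      · simp
      · simp only [Category.assoc, whiskerLeft_snd, lift_snd]
        rw [← Category.assoc]
        congr 1
        ext <;> simp
    rw [e1, m, m, ← Category.assoc, e2, m, m, _root_.mul_assoc]
  · have := iv (𝟙 X)
    rw [Category.id_comp] at this
    rw [m, o, this, inv_mul_cancel]
  · have := iv (𝟙 X)
    rw [Category.id_comp] at this
    rw [m, o, this, mul_inv_cancel]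

end

section

variable {S T U : Scheme.{u}} {g : T ⟶ S} {g' : U ⟶ T} {h : U ⟶ S} (w : g' ≫ g = h)

include w

theorem tensor_cmp (X Y : Over S) :
    Functor.LaxMonoidal.μ (Over.pullback g') _ _ ≫
      (Over.pullback g').map (Functor.LaxMonoidal.μ (Over.pullback g) X Y) ≫ (cmp w (X ⊗ Y)).hom =
      ((cmp w X).hom ⊗ₘ (cmp w Y).hom) ≫ Functor.LaxMonoidal.μ (Over.pullback h) X Y := by
  rw [← cancel_mono (Functor.OplaxMonoidal.δ (Over.pullback h) X Y), Category.assoc, Category.assoc,
    Category.assoc, Functor.Monoidal.μ_δ, Category.comp_id]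
  apply CartesianMonoidalCategory.hom_ext
  · simp only [Category.assoc, Functor.OplaxMonoidal.δ_fst, tensorHom_fst]
    rw [← cmp_natural, ← Functor.map_comp_assoc, Functor.Monoidal.μ_fst,
      Functor.Monoidal.μ_fst_assoc]
  · simp only [Category.assoc, Functor.OplaxMonoidal.δ_snd, tensorHom_snd]
    rw [← cmp_natural, ← Functor.map_comp_assoc, Functor.Monoidal.μ_snd,
      Functor.Monoidal.μ_snd_assoc]

theorem unit_cmp :
    Functor.LaxMonoidal.ε (Over.pullback g') ≫
      (Over.pullback g').map (Functor.LaxMonoidal.ε (Over.pullback g)) ≫ (cmp w (𝟙_ (Over S))).hom =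
      Functor.LaxMonoidal.ε (Over.pullback h) := by
  rw [← cancel_mono (Functor.OplaxMonoidal.η (Over.pullback h)), Functor.Monoidal.ε_η]
  exact toUnit_unique _ _

end

end Groth.Agent.LimGrp
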