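import Groth.Agent.LimGrp.Stage
import Groth.Agent.LimGrp.PreGrp
import Groth.Prelude.Def_ActBC

/-!
# Actions over a cofiltered limit come from a stage

* `Tw` : an equivariant isomorphism along an isomorphism of groups
* `exists_stage_action` : an action on the base change of a finitely presented object descends to a stage
-/

set_option autoImplicit false
set_option linter.style.haveILetI false
set_option backward.isDefEq.respectTransparency false
set_option backward.defeqAttrib.useBackward true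
set_option synthInstance.maxHeartbeats 400000

universe u

open CategoryTheory Limits AlgebraicGeometry MonoidalCategory CartesianMonoidalCategory MonObj

namespace Groth.Agent.LimGrp

section Tw

variable {S T U : Scheme.{u}} {G G' G'' X X' X'' : Over S} [GrpObj G] [GrpObj G'] [GrpObj G'']

/-- `e` intertwines two actions along `φ`. -/
def Tw (a : AlgGrp.Action G X) (a' : AlgGrp.Action G' X') (φ : G ⟶ G') (e : X ⟶ X') : Prop :=
  a.act ≫ e = (φ ⊗ₘ e) ≫ a'.act

theorem Tw.comp {a : AlgGrp.Action G X} {a' : AlgGrp.Action G' X'} {a'' : AlgGrp.Action G'' X''} {φ : G ⟶ G'}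
    {φ' : G' ⟶ G''} {e : X ⟶ X'} {e' : X' ⟶ X''} (h : Tw a a' φ e) (h' : Tw a' a'' φ' e') :
    Tw a a'' (φ ≫ φ') (e ≫ e') := by
  unfold Tw at *
  rw [← Category.assoc, h, Category.assoc, h', tensorHom_comp_tensorHom_assoc]

theorem Tw.symm {a : AlgGrp.Action G X} {a' : AlgGrp.Action G' X'} (φ : G ≅ G') (e : X ≅ X')
    (h : Tw a a' φ.hom e.hom) : Tw a' a φ.inv e.inv := by
  unfold Tw at *
  rw [← cancel_mono e.hom, Category.assoc, Category.assoc, e.inv_hom_id, Category.comp_id, h,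
    tensorHom_comp_tensorHom_assoc, φ.inv_hom_id, e.inv_hom_id, id_tensorHom_id, Category.id_comp]

theorem Tw.restrict (a : AlgGrp.Action G' X) (φ : G ⟶ G') [IsMonHom φ] : Tw (a.restrict φ) a φ (𝟙 X) := by
  unfold Tw
  rw [Category.comp_id, AlgGrp.Action.restrict_act, tensorHom_id]

theorem Tw.bc (f : T ⟶ S) {a : AlgGrp.Action G X} {a' : AlgGrp.Action G' X'} {φ : G ⟶ G'} {e : X ⟶ X'}
    (h : Tw a a' φ e) : Tw (a.bc f) (a'.bc f) ((Over.pullback f).map φ) ((Over.pullback f).map e) := by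
  unfold Tw at *
  rw [AlgGrp.Action.bc_act, AlgGrp.Action.bc_act, Category.assoc, ← Functor.map_comp, h, Functor.map_comp,
    Functor.LaxMonoidal.μ_natural_assoc]

theorem Tw.bc_bc {g : T ⟶ S} {g' : U ⟶ T} {h : U ⟶ S} (w : g' ≫ g = h) (a : AlgGrp.Action G X) :
    Tw ((a.bc g).bc g') (a.bc h) (cmp w G).hom (cmp w X).hom := by
  unfold Tw
  rw [AlgGrp.Action.bc_act, AlgGrp.Action.bc_act, AlgGrp.Action.bc_act, Category.assoc, Functor.map_comp,
    Category.assoc, cmp_natural, ← reassoc_of% tensor_cmp w G X]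

/-- Intertwining along equal group maps. -/
theorem Tw.congr {a : AlgGrp.Action G X} {a' : AlgGrp.Action G' X'} {φ φ' : G ⟶ G'} {e : X ⟶ X'}
    (h : Tw a a' φ e) (hφ : φ = φ') : Tw a a' φ' e := hφ ▸ h

/-- An intertwining is an equivariant isomorphism to the restricted action. -/
def Tw.equivIso {a : AlgGrp.Action G X} {a' : AlgGrp.Action G' X'} {φ : G ⟶ G'} [IsMonHom φ] (e : X ≅ X')
    (h : Tw a a' φ e.hom) : NonAbH1.EquivIso a (a'.restrict φ) where
  iso := e
  comm := by
    rw [AlgGrp.Action.restrict_act, h, tensorHom_def', Category.assoc]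

theorem isPseudoTorsor_of_tw {a : AlgGrp.Action G X} {a' : AlgGrp.Action G' X'} (φ : G ≅ G') (e : X ≅ X')
    (h : Tw a a' φ.hom e.hom) (ha' : NonAbH1.IsPseudoTorsorSch a') : NonAbH1.IsPseudoTorsorSch a := by
  have : IsIso (lift a'.act (snd G' X')) := ha'
  have key : lift a.act (snd G X) = (φ.hom ⊗ₘ e.hom) ≫ lift a'.act (snd G' X') ≫ (e.inv ⊗ₘ e.inv) := by
    rw [lift_map, comp_lift]
    refine congrArg₂ lift ?_ ?_
    · rw [← Category.assoc, ← h, Category.assoc, e.hom_inv_id, Category.comp_id]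
    · rw [← Category.assoc, tensorHom_snd, Category.assoc, e.hom_inv_id, Category.comp_id]
  show IsIso (lift a.act (snd G X))
  rw [key]
  infer_instance

/-- Transport of an action along isomorphisms. -/
theorem exists_transport (a : AlgGrp.Action G' X') (φ : G ≅ G') [IsMonHom φ.hom] (e : X ≅ X') :
    ∃ b : AlgGrp.Action G X, Tw b a φ.hom e.hom := by
  have hpt : ∀ {T : Over S} (g : T ⟶ G) (x : T ⟶ X), lift g x ≫ (φ.hom ⊗ₘ e.hom) ≫ a.act ≫ e.inv =
      (lift (g ≫ φ.hom) (x ≫ e.hom) ≫ a.act) ≫ e.inv := fun g x => by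
    rw [lift_map_assoc, Category.assoc]
  refine ⟨
    { act := (φ.hom ⊗ₘ e.hom) ≫ a.act ≫ e.inv
      one_act := by
        have : lift (1 : 𝟙_ (Over S) ⊗ X ⟶ G) (snd _ X) ≫ (φ.hom ⊗ₘ e.hom) ≫ a.act ≫ e.inv = snd _ X := by
          rw [hpt, MonObj.one_comp, a.lift_one_act, Category.assoc, e.hom_inv_id, Category.comp_id]
        rw [leftUnitor_hom, ← this]
        refine congrArg (fun w => w ≫ (φ.hom ⊗ₘ e.hom) ≫ a.act ≫ e.inv)
          (CartesianMonoidalCategory.hom_ext _ _ ?_ ?_)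
        · rw [whiskerRight_fst, lift_fst, Hom.one_def, toUnit_unique (toUnit _) (fst (𝟙_ (Over S)) X)]
        · simp
      mul_act := by
        apply AlgGrp.Action.hom_ext_lift₃
        intro T g g' x
        rw [lift_whiskerRight_assoc, ← Hom.mul_def, hpt, lift_lift_associator_hom_assoc, lift_whiskerLeft_assoc,
          hpt, hpt, MonObj.mul_comp, a.lift_mul_act, Category.assoc (lift (g' ≫ φ.hom) _ ≫ a.act) e.inv e.hom,
          e.inv_hom_id, Category.comp_id] }, ?_⟩
  show ((φ.hom ⊗ₘ e.hom) ≫ a.act ≫ e.inv) ≫ e.hom = _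
  rw [Category.assoc, Category.assoc, e.inv_hom_id, Category.comp_id]

end Tw

section Limit

variable {I : Type u} [SmallCategory I] [IsCofiltered I] {D : I ⥤ Scheme.{u}} {c : Cone D}
  (hc : IsLimit c) [∀ (i i' : I) (f : i ⟶ i'), IsAffineHom (D.map f)]
  [∀ i, CompactSpace (D.obj i)] [∀ i, QuasiSeparatedSpace (D.obj i)]
  {i : I}

include hc

/-- An action over the limit descends to a stage. -/
theorem exists_stage_action {G V : Over (D.obj i)} [GrpObj G]
    [QuasiCompact G.hom] [QuasiSeparated G.hom] [LocallyOfFinitePresentation G.hom]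
    [QuasiCompact V.hom] [QuasiSeparated V.hom] [LocallyOfFinitePresentation V.hom]
    (b : AlgGrp.Action (Red.bc (c.π.app i) G) (Red.bc (c.π.app i) V)) :
    ∃ (j : I) (u : j ⟶ i) (act : AlgGrp.Action (Red.bc (D.map u) G) (Red.bc (D.map u) V)),
      Tw (act.bc (c.π.app j)) b (cmp (c.w u) G).hom (cmp (c.w u) V).hom := by
  obtain ⟨j, u, α, hα⟩ := exists_stage_hom hc (G ⊗ V) V
    (Functor.OplaxMonoidal.δ (Over.pullback (c.π.app i)) G V ≫ b.act)
  let Gj := Red.bc (D.map u) G
  let Vj := Red.bc (D.map u) V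
  let m : Gj ⊗ Vj ⟶ Vj := Functor.LaxMonoidal.μ (Over.pullback (D.map u)) G V ≫ α
  let F := Over.pullback (c.π.app j)
  haveI := isMonHom_cmp (c.w u) G
  obtain ⟨b', hb'⟩ := exists_transport b (cmp (c.w u) G) (cmp (c.w u) V) (G := Red.bc (c.π.app j) Gj)
    (X := Red.bc (c.π.app j) Vj)
  have hm : Functor.LaxMonoidal.μ F Gj Vj ≫ F.map m = b'.act := by
    rw [← cancel_mono (cmp (c.w u) V).hom, show b'.act ≫ (cmp (c.w u) V).hom = _ from hb', Category.assoc]
    show Functor.LaxMonoidal.μ F Gj Vj ≫ F.map (Functor.LaxMonoidal.μ (Over.pullback (D.map u)) G V ≫ α) ≫ _ = _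
    rw [Functor.map_comp, Category.assoc, hα, reassoc_of% tensor_cmp (c.w u) G V,
      Functor.Monoidal.μ_δ_assoc]
  have e1 : F.map (η[Gj] ▷ Vj ≫ m) = F.map (λ_ Vj).hom := by
    have h := b'.one_act
    rw [← hm, Functor.obj.η_def, comp_whiskerRight, Category.assoc, Functor.LaxMonoidal.μ_natural_left_assoc,
      ← Functor.map_comp, Functor.LaxMonoidal.left_unitality] at h
    exact (cancel_epi (Functor.LaxMonoidal.μ F _ _)).1 ((cancel_epi (Functor.LaxMonoidal.ε F ▷ F.obj Vj)).1 h)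
  have e2 : F.map (μ[Gj] ▷ Vj ≫ m) = F.map ((α_ Gj Gj Vj).hom ≫ Gj ◁ m ≫ m) := by
    have h := b'.mul_act
    rw [← hm, Functor.obj.μ_def, comp_whiskerRight, Category.assoc, Functor.LaxMonoidal.μ_natural_left_assoc,
      ← Functor.map_comp, MonoidalCategory.whiskerLeft_comp, Category.assoc,
      Functor.LaxMonoidal.μ_natural_right_assoc, ← Functor.LaxMonoidal.associativity_assoc,
      ← Functor.map_comp, ← Functor.map_comp] at h
    exact (cancel_epi (Functor.LaxMonoidal.μ F _ _)).1 ((cancel_epi (Functor.LaxMonoidal.μ F Gj Gj ▷ _)).1 h)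
  haveI : QuasiCompact (𝟙_ (Over (D.obj j))).hom := inferInstanceAs (QuasiCompact (𝟙 (D.obj j)))
  haveI : QuasiSeparated (𝟙_ (Over (D.obj j))).hom := inferInstanceAs (QuasiSeparated (𝟙 (D.obj j)))
  obtain ⟨l, v, h1, h2⟩ := ((desc_eqAt hc _ _).and (desc_eqAt hc _ _)).descends
    (show EqAt (η[Gj] ▷ Vj ≫ m) (λ_ Vj).hom (c.π.app j) ∧
      EqAt (μ[Gj] ▷ Vj ≫ m) ((α_ Gj Gj Vj).hom ≫ Gj ◁ m ≫ m) (c.π.app j) from ⟨e1, e2⟩)
  let F' := Over.pullback (D.map v)
  let al : AlgGrp.Action (Red.bc (D.map v) Gj) (Red.bc (D.map v) Vj) :=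
    { act := Functor.LaxMonoidal.μ F' Gj Vj ≫ F'.map m
      one_act := by
        rw [Functor.obj.η_def, comp_whiskerRight, Category.assoc, Functor.LaxMonoidal.μ_natural_left_assoc,
          ← Functor.map_comp, show F'.map (η[Gj] ▷ Vj ≫ m) = _ from h1]
        exact (Functor.LaxMonoidal.left_unitality F' Vj).symm
      mul_act := by
        rw [Functor.obj.μ_def, comp_whiskerRight, Category.assoc, Functor.LaxMonoidal.μ_natural_left_assoc,
          ← Functor.map_comp, show F'.map (μ[Gj] ▷ Vj ≫ m) = _ from h2, Functor.map_comp, Functor.map_comp,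
          Functor.LaxMonoidal.associativity_assoc, ← Functor.LaxMonoidal.μ_natural_right_assoc,
          MonoidalCategory.whiskerLeft_comp, Category.assoc] }
  haveI := isMonHom_cmp (D.map_comp v u).symm G
  haveI : IsMonHom (cmp (D.map_comp v u).symm G).symm.hom :=
    inferInstanceAs (IsMonHom (cmp (D.map_comp v u).symm G).inv)
  obtain ⟨act, hact⟩ := exists_transport al (cmp (D.map_comp v u).symm G).symm (cmp (D.map_comp v u).symm V).symm
  refine ⟨l, v ≫ u, act, ?_⟩
  have hal : Tw (al.bc (c.π.app l)) b' (cmp (c.w v) Gj).hom (cmp (c.w v) Vj).hom := by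
    unfold Tw
    rw [AlgGrp.Action.bc_act, ← hm, Category.assoc]
    show Functor.LaxMonoidal.μ (Over.pullback (c.π.app l)) _ _ ≫
      (Over.pullback (c.π.app l)).map (Functor.LaxMonoidal.μ F' Gj Vj ≫ F'.map m) ≫ _ = _
    rw [Functor.map_comp, Category.assoc, cmp_natural, reassoc_of% tensor_cmp (c.w v) Gj Vj]
  have e : ∀ Y : Over (D.obj i), (Over.pullback (c.π.app l)).map (cmp (D.map_comp v u).symm Y).inv ≫
      (cmp (c.w v) (Red.bc (D.map u) Y)).hom ≫ (cmp (c.w u) Y).hom = (cmp (c.w (v ≫ u)) Y).hom := fun Y => by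
    rw [← cmp_assoc (D.map_comp v u).symm (c.w v) (c.w (v ≫ u)) (c.w u) Y, ← Functor.map_comp_assoc,
      Iso.inv_hom_id, CategoryTheory.Functor.map_id, Category.id_comp]
  have h := ((Tw.bc (c.π.app l) hact).comp hal).comp hb'
  unfold Tw at h ⊢
  rw [← e G, ← e V]
  simp only [Iso.symm_hom, Category.assoc] at h ⊢
  exact h

end Limit

end Groth.Agent.LimGrp
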