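import Groth.Prelude.Def_Red
import Groth.Agent.LimLib.Basic

/-! Morphisms of schemes of finite presentation over a cofiltered limit, in `Over` form. -/

set_option autoImplicit false
set_option backward.isDefEq.respectTransparency false
set_option backward.defeqAttrib.useBackward true
universe u

open CategoryTheory Limits AlgebraicGeometry

namespace Groth.Agent.LimGrp

theorem bc_hom_ext {S T : Scheme.{u}} {g : T ⟶ S} {Y : Over S} {W : Over T} {v w : W ⟶ Red.bc g Y}
    (h : v.left ≫ pullback.fst Y.hom g = w.left ≫ pullback.fst Y.hom g) : v = w := by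
  ext1
  exact pullback.hom_ext h ((Over.w v).trans (Over.w w).symm)

theorem bc_map_fst {S T : Scheme.{u}} (g : T ⟶ S) {X Y : Over S} (v : X ⟶ Y) :
    ((Over.pullback g).map v).left ≫ pullback.fst Y.hom g = pullback.fst X.hom g ≫ v.left := by
  simp

theorem eqToIso_fst {S T : Scheme.{u}} {g g' : T ⟶ S} (h : g = g') (X : Over S) :
    (eqToIso (congrArg (fun g => Red.bc g X) h)).hom.left ≫ pullback.fst X.hom g' =
      pullback.fst X.hom g := by
  subst h; simp

/-- Base change to an intermediate stage, then further. -/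
noncomputable def cmp {S T U : Scheme.{u}} {g : T ⟶ S} {g' : U ⟶ T} {h : U ⟶ S} (w : g' ≫ g = h)
    (X : Over S) : Red.bc g' (Red.bc g X) ≅ Red.bc h X :=
  ((Over.pullbackComp g' g).app X).symm ≪≫ eqToIso (congrArg (fun g => Red.bc g X) w)

theorem cmp_fst {S T U : Scheme.{u}} {g : T ⟶ S} {g' : U ⟶ T} {h : U ⟶ S} (w : g' ≫ g = h)
    (X : Over S) : (cmp w X).hom.left ≫ pullback.fst X.hom h =
      pullback.fst (Red.bc g X).hom g' ≫ pullback.fst X.hom g := by
  simp only [cmp, Iso.trans_hom, Iso.symm_hom, Over.comp_left, Category.assoc]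
  rw [eqToIso_fst w X]
  subst w
  simp [Over.pullbackComp]

theorem cmp_natural {S T U : Scheme.{u}} {g : T ⟶ S} {g' : U ⟶ T} {h : U ⟶ S} (w : g' ≫ g = h)
    {X Y : Over S} (v : X ⟶ Y) :
    (Over.pullback g').map ((Over.pullback g).map v) ≫ (cmp w Y).hom =
      (cmp w X).hom ≫ (Over.pullback h).map v := by
  refine bc_hom_ext ?_
  rw [Over.comp_left, Over.comp_left, Category.assoc, Category.assoc, cmp_fst, bc_map_fst,
    reassoc_of% cmp_fst w X]
  rw [reassoc_of% bc_map_fst g' ((Over.pullback g).map v), bc_map_fst]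

theorem bc_map_comp_congr {S T U : Scheme.{u}} {g : T ⟶ S} {g' : U ⟶ T} {h : U ⟶ S} (w : g' ≫ g = h)
    {X Y : Over S} (v : X ⟶ Y) :
    (Over.pullback h).map v =
      (cmp w X).inv ≫ (Over.pullback g').map ((Over.pullback g).map v) ≫ (cmp w Y).hom := by
  rw [cmp_natural, Iso.inv_hom_id_assoc]

section Limit

variable {I : Type u} [SmallCategory I] [IsCofiltered I] {D : I ⥤ Scheme.{u}} {c : Cone D}
  (hc : IsLimit c) [∀ (i i' : I) (f : i ⟶ i'), IsAffineHom (D.map f)]
  [∀ i, CompactSpace (D.obj i)] [∀ i, QuasiSeparatedSpace (D.obj i)]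
  {i : I} (X : Over (D.obj i)) [QuasiCompact X.hom] [QuasiSeparated X.hom]

/-- The cone on the base changes of X. -/
noncomputable abbrev objCone : Cone (LimLib.bcDiag D i X.hom) :=
  LimLib.bcCone (IsPullback.of_hasPullback X.hom (c.π.app i))

theorem cmp_comp_π {j : I} (a : j ⟶ i) :
    (cmp (c.w a) X).hom.left ≫ (objCone (c := c) X).π.app (Over.mk a) =
      pullback.fst (Red.bc (D.map a) X).hom (c.π.app j) := by
  apply pullback.hom_ext
  · simp only [LimLib.bcCone_π_app, Category.assoc, pullback.lift_fst]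
    exact cmp_fst (c.w a) X
  · simp only [LimLib.bcCone_π_app, Category.assoc, pullback.lift_snd]
    rw [← Category.assoc]
    have := Over.w (cmp (c.w a) X).hom
    rw [show (cmp (c.w a) X).hom.left ≫ pullback.snd X.hom (c.π.app i) =
      pullback.snd (Red.bc (D.map a) X).hom (c.π.app j) from this]
    exact pullback.condition.symm

/-- The constant transformation. -/
noncomputable def objT : LimLib.bcDiag D i X.hom ⟶ (Functor.const (Over i)).obj (D.obj i) where
  app j := pullback.fst X.hom (D.map j.hom) ≫ X.hom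
  naturality j k a := by simp

include hc

theorem exists_stage_hom (Y : Over (D.obj i)) [LocallyOfFinitePresentation Y.hom]
    (v : Red.bc (c.π.app i) X ⟶ Red.bc (c.π.app i) Y) :
    ∃ (j : I) (a : j ⟶ i) (v' : Red.bc (D.map a) X ⟶ Red.bc (D.map a) Y),
      (Over.pullback (c.π.app j)).map v' ≫ (cmp (c.w a) Y).hom = (cmp (c.w a) X).hom ≫ v := by
  have : CompactSpace X.left := QuasiCompact.compactSpace_of_compactSpace X.hom
  have : QuasiSeparatedSpace X.left := quasiSeparatedSpace_of_quasiSeparated X.hom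
  have hw : v.left ≫ pullback.fst Y.hom (c.π.app i) ≫ Y.hom = pullback.fst X.hom (c.π.app i) ≫ X.hom := by
    rw [pullback.condition, pullback.condition, ← Category.assoc]
    exact congrArg (· ≫ c.π.app i) (Over.w v)
  obtain ⟨j, s, hs₁, hs₂⟩ := Scheme.exists_π_app_comp_eq_of_locallyOfFinitePresentation
    (LimLib.bcDiag D i X.hom) (objT X) Y.hom (objCone (c := c) X)
    (LimLib.isLimitBcCone hc (IsPullback.of_hasPullback X.hom (c.π.app i)))
    (v.left ≫ pullback.fst Y.hom (c.π.app i)) (by
      ext k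
      simp [objT, hw])
  let a' : j.left ⟶ i := j.hom
  refine ⟨j.left, a', Over.homMk (pullback.lift s (pullback.snd X.hom (D.map a'))
    (hs₂.trans pullback.condition)) (pullback.lift_snd _ _ _), bc_hom_ext ?_⟩
  rw [Over.comp_left, Over.comp_left, Category.assoc, Category.assoc, cmp_fst,
    reassoc_of% bc_map_fst]
  refine (congrArg (_ ≫ ·) (pullback.lift_fst _ _ _)).trans ?_
  rw [← hs₁, ← Category.assoc]
  exact congrArg (· ≫ s) (cmp_comp_π X a').symm

theorem exists_stage_eq (Y : Over (D.obj i)) [LocallyOfFiniteType Y.hom] (v₁ v₂ : X ⟶ Y)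
    (h : (Over.pullback (c.π.app i)).map v₁ = (Over.pullback (c.π.app i)).map v₂) :
    ∃ (j : I) (a : j ⟶ i), (Over.pullback (D.map a)).map v₁ = (Over.pullback (D.map a)).map v₂ := by
  have : CompactSpace X.left := QuasiCompact.compactSpace_of_compactSpace X.hom
  have : QuasiSeparatedSpace X.left := quasiSeparatedSpace_of_quasiSeparated X.hom
  have e : ∀ v : X ⟶ Y, (objT X).app (Over.mk (𝟙 i)) =
      (pullback.fst X.hom (D.map (𝟙 i)) ≫ v.left) ≫ Y.hom := fun v => by
    rw [Category.assoc, Over.w]; rfl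
  obtain ⟨k, hik, hk⟩ := Scheme.exists_hom_comp_eq_comp_of_locallyOfFiniteType
    (LimLib.bcDiag D i X.hom) (objT X) Y.hom (objCone (c := c) X)
    (LimLib.isLimitBcCone hc (IsPullback.of_hasPullback X.hom (c.π.app i)))
    (i := Over.mk (𝟙 i)) _ _ (e v₁) (e v₂) (by
      have e1 : (objCone (c := c) X).π.app (Over.mk (𝟙 i)) ≫ pullback.fst X.hom (D.map (𝟙 i)) =
          pullback.fst X.hom (c.π.app i) := pullback.lift_fst _ _ _
      rw [reassoc_of% e1, reassoc_of% e1, ← bc_map_fst, ← bc_map_fst, h])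
  refine ⟨k.left, k.hom, bc_hom_ext ?_⟩
  rw [bc_map_fst, bc_map_fst]
  have e2 : (LimLib.bcDiag D i X.hom).map hik ≫ pullback.fst X.hom (D.map (𝟙 i)) =
      pullback.fst X.hom (D.map k.hom) := pullback.lift_fst _ _ _
  rw [reassoc_of% e2, reassoc_of% e2] at hk
  exact hk

end Limit

end Groth.Agent.LimGrp
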