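import Groth.Agent.LimGrp.Stage
import Groth.Agent.GrpScheme.SubgroupObj

/-! Closed subgroups under base change to the stages. -/

set_option autoImplicit false
set_option backward.isDefEq.respectTransparency false
set_option backward.defeqAttrib.useBackward true
universe u

open CategoryTheory Limits AlgebraicGeometry MonoidalCategory CartesianMonoidalCategory MonObj

namespace Groth.Agent.LimGrp

variable {S T : Scheme.{u}} {G H : Over S} [GrpObj G] (v : H ⟶ G)

/-- The operations restricted to `H` factor through `H` after base change. -/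
def SubgroupAt (g : T ⟶ S) : Prop :=
  FactorsAt ((v ⊗ₘ v) ≫ μ[G]) v g ∧ FactorsAt (η[G] : 𝟙_ (Over S) ⟶ G) v g ∧ FactorsAt (v⁻¹) v g

theorem exists_grpObj_of_subgroupAt (g : T ⟶ S) [IsClosedImmersion v.left] (h : SubgroupAt v g) :
    ∃ _ : GrpObj (Red.bc g H), IsMonHom ((Over.pullback g).map v) := by
  obtain ⟨⟨φ₁, h₁⟩, ⟨φ₂, h₂⟩, ⟨φ₃, h₃⟩⟩ := h
  haveI : IsClosedImmersion ((Over.pullback g).map v).left := by
    have hsq : IsPullback (pullback.fst H.hom g) ((Over.pullback g).map v).left v.left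
        (pullback.fst G.hom g) := by
      refine IsPullback.of_bot ?_ (bc_map_fst g v).symm (IsPullback.of_hasPullback G.hom g)
      rw [show ((Over.pullback g).map v).left ≫ pullback.snd G.hom g = pullback.snd H.hom g from
        Over.w ((Over.pullback g).map v), Over.w]
      exact IsPullback.of_hasPullback H.hom g
    exact MorphismProperty.of_isPullback hsq inferInstance
  haveI : Mono ((Over.pullback g).map v) := (Over.forget T).mono_of_mono_map
    (inferInstanceAs (Mono ((Over.pullback g).map v).left))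
  refine GrpScheme.SubgroupObj.exists_grpObj ((Over.pullback g).map v)
    ⟨Functor.LaxMonoidal.μ (Over.pullback g) H H ≫ φ₁, ?_⟩
    ⟨Functor.LaxMonoidal.ε (Over.pullback g) ≫ φ₂, ?_⟩ ⟨φ₃, ?_⟩
  · rw [Category.assoc, h₁, Functor.map_comp, Functor.obj.μ_def, Functor.LaxMonoidal.μ_natural_assoc]
  · rw [Category.assoc, h₂, Functor.obj.η_def]
  · rw [h₃, map_inv', Hom.inv_def]

theorem subgroupAt_of_grpObj (g : T ⟶ S) [GrpObj (Red.bc g H)] [IsMonHom ((Over.pullback g).map v)] :
    SubgroupAt v g := by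
  refine ⟨⟨Functor.OplaxMonoidal.δ (Over.pullback g) H H ≫ μ[Red.bc g H], ?_⟩,
    ⟨Functor.OplaxMonoidal.η (Over.pullback g) ≫ η[Red.bc g H], ?_⟩,
    ⟨(𝟙 (Red.bc g H))⁻¹, ?_⟩⟩
  · rw [Category.assoc, IsMonHom.mul_hom, Functor.obj.μ_def, Functor.map_comp,
      Functor.LaxMonoidal.μ_natural_assoc, Functor.Monoidal.δ_μ_assoc]
  · rw [Category.assoc, IsMonHom.one_hom, Functor.obj.η_def, Functor.Monoidal.η_ε_assoc]
  · rw [GrpObj.inv_comp, Category.id_comp, map_inv']

theorem isNormalHom_iff' (g : T ⟶ S) [GrpObj (Red.bc g H)] :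
    AlgGrp.IsNormalHom ((Over.pullback g).map v) ↔ FactorsAt (conjHom v) v g := by
  set F := Over.pullback g
  have hc : Functor.LaxMonoidal.μ F G H ≫ F.map (conjHom v) =
      fst (F.obj G) (F.obj H) * (snd (F.obj G) (F.obj H) ≫ F.map v) * (fst (F.obj G) (F.obj H))⁻¹ := by
    rw [conjHom, map_mul', map_mul', map_inv', MonObj.comp_mul, MonObj.comp_mul, GrpObj.comp_inv,
      Functor.map_comp, Functor.Monoidal.μ_fst, Functor.Monoidal.μ_snd_assoc]
  constructor
  · intro hN
    obtain ⟨n', hn'⟩ := hN (F.obj G ⊗ F.obj H) (fst _ _) (snd _ _)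
    refine ⟨Functor.OplaxMonoidal.δ F G H ≫ n', ?_⟩
    rw [Category.assoc, ← hn', ← hc, Functor.Monoidal.δ_μ_assoc]
  · rintro ⟨φ, hφ⟩ X a n
    refine ⟨lift a n ≫ Functor.LaxMonoidal.μ F G H ≫ φ, ?_⟩
    rw [Category.assoc, Category.assoc, hφ, hc, MonObj.comp_mul, MonObj.comp_mul, GrpObj.comp_inv,
      lift_fst, lift_snd_assoc]

end Groth.Agent.LimGrp

namespace Groth.Agent.LimGrp

variable {I : Type u} [SmallCategory I] [IsCofiltered I] {D : I ⥤ Scheme.{u}} {c : Cone D}
  (hc : IsLimit c) [∀ (i i' : I) (f : i ⟶ i'), IsAffineHom (D.map f)]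
  [∀ i, CompactSpace (D.obj i)] [∀ i, QuasiSeparatedSpace (D.obj i)]
  {i : I} {G H : Over (D.obj i)} [GrpObj G] [QuasiCompact G.hom] [QuasiSeparated G.hom]
  [LocallyOfFinitePresentation G.hom] [QuasiCompact H.hom] [QuasiSeparated H.hom]
  [LocallyOfFinitePresentation H.hom] (v : H ⟶ G)

include hc

theorem desc_subgroupAt : Desc (c := c) fun g => SubgroupAt v g :=
  haveI : QuasiCompact (𝟙_ (Over (D.obj i))).hom := inferInstanceAs (QuasiCompact (𝟙 (D.obj i)))
  haveI : QuasiSeparated (𝟙_ (Over (D.obj i))).hom := inferInstanceAs (QuasiSeparated (𝟙 (D.obj i)))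
  (desc_factorsAt hc _ v).and ((desc_factorsAt hc _ v).and (desc_factorsAt hc _ v))

end Groth.Agent.LimGrp
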